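import Groth.Agent.Lib.RingExtZero.Presheaf
import Mathlib.Algebra.Category.Grp.EpiMono

/-! # Extension by zero of modules over a sheaf of rings is exact and faithful -/

set_option autoImplicit false
set_option linter.style.haveILetI false
universe u

open CategoryTheory Opposite Limits DirectSum

namespace GrothLib.RingExtZero

variable {C : Type u} [SmallCategory C] {J : GrothendieckTopology C} (O : Sheaf J RingCat.{u}) (U : C)

attribute [local instance] Abelian.hasFiniteBiproducts

/-- `j_!` -/
noncomputable abbrev ext : SheafOfModules.{u} (O.over U) ⥤ SheafOfModules.{u} O :=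
  SheafOfModules.forget (O.over U) ⋙ extP O U ⋙ PresheafOfModules.sheafification.{u} (𝟙 O.obj)

theorem preservesMono_ext : (ext O U).PreservesMonomorphisms := ⟨fun {G G'} f _ => by
  haveI : (SheafOfModules.forget (O.over U)).IsRightAdjoint :=
    (PresheafOfModules.sheafificationAdjunction (𝟙 (O.over U).obj)).isRightAdjoint
  haveI : Mono ((extP O U).map ((SheafOfModules.forget (O.over U)).map f)) := by
    apply Functor.mono_of_mono_map (PresheafOfModules.toPresheaf _)
    refine @NatTrans.mono_of_mono_app _ _ _ _ _ _ _ fun V => ?_
    rw [AddCommGrpCat.mono_iff_injective]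
    have h : Function.Injective (DirectSum.lmap (hcomp ((SheafOfModules.forget (O.over U)).map f) V)) := by
      classical
      rw [DirectSum.lmap_injective]
      intro φ
      have : Mono ((PresheafOfModules.evaluation _ (op (Over.mk φ))).map ((SheafOfModules.forget (O.over U)).map f)) :=
        Functor.map_mono _ _
      exact (ModuleCat.mono_iff_injective _).1 this
    exact h
  exact inferInstanceAs (Mono ((PresheafOfModules.sheafification.{u} (𝟙 O.obj)).map _))⟩

theorem preservesFiniteColimits_ext : PreservesFiniteColimits (ext O U) :=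
  haveI : (ext O U).IsLeftAdjoint := (extShfAdj O U).isLeftAdjoint
  PreservesColimits.preservesFiniteColimits _

theorem preservesFiniteLimits_ext : PreservesFiniteLimits (ext O U) := by
  haveI : (ext O U).IsLeftAdjoint := (extShfAdj O U).isLeftAdjoint
  haveI : PreservesBinaryBiproducts (ext O U) := preservesBinaryBiproducts_of_preservesBinaryCoproducts _
  haveI : (ext O U).Additive := Functor.additive_of_preservesBinaryBiproducts _
  have := preservesFiniteColimits_ext O U
  have := preservesMono_ext O U
  rw [Functor.preservesFiniteLimits_iff_forall_exact_map_and_mono]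
  intro S hS
  have := hS.mono_f
  have := hS.epi_g
  exact ⟨hS.exact.map_of_epi_of_preservesCokernel (ext O U) inferInstance inferInstance,
    inferInstanceAs (Mono ((ext O U).map S.f))⟩

open scoped Classical in
/-- the unit `G ⟶ (j_! G)|_U` is injective on sections -/
theorem eq_zero_of_extP_unit {G : SheafOfModules.{u} (O.over U)} (P : Over U) (x : G.val.obj (op P))
    (h : ((PresheafOfModules.sheafificationAdjunction (𝟙 O.obj)).unit.app ((extP O U).obj ((SheafOfModules.forget (O.over U)).obj G))).app (op P.left)
      (incl ((SheafOfModules.forget (O.over U)).obj G) (op P.left) P.hom x) = 0) : x = 0 := by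
  let G' := (SheafOfModules.forget (O.over U)).obj G
  let E := (extP O U).obj G'
  have hs : Presheaf.equalizerSieve (F := E.presheaf) (X := op P.left) (incl G' (op P.left) P.hom x) 0 ∈ J P.left := by
    haveI : Presheaf.IsLocallyInjective J ((PresheafOfModules.toPresheaf _).map
        ((PresheafOfModules.sheafificationAdjunction (𝟙 O.obj)).unit.app E)) := by
      rw [show (PresheafOfModules.toPresheaf _).map ((PresheafOfModules.sheafificationAdjunction (𝟙 O.obj)).unit.app E) =
        CategoryTheory.toSheafify J E.presheaf from rfl]
      exact (J.W_toSheafify _).isLocallyInjective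
    exact Presheaf.equalizerSieve_mem J ((PresheafOfModules.toPresheaf _).map ((PresheafOfModules.sheafificationAdjunction (𝟙 O.obj)).unit.app E)) _ _
      (h.trans (map_zero _).symm)
  let S := (Sieve.overEquiv P).symm (Presheaf.equalizerSieve (F := E.presheaf) (X := op P.left) (incl G' (op P.left) P.hom x) 0)
  have hS : S ∈ (J.over U) P := J.overEquiv_symm_mem_over P _ hs
  have hsep : Presieve.IsSeparatedFor (G.val.presheaf ⋙ forget AddCommGrpCat.{u}) S.arrows :=
    (((isSheaf_iff_isSheaf_of_type _ _).1
      ((Presheaf.isSheaf_iff_isSheaf_comp (J.over U) G.val.presheaf (forget AddCommGrpCat.{u})).1 G.isSheaf)) S hS).isSeparatedFor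
  refine hsep.ext fun Q k hk => ?_
  have hk' : E.presheaf.map k.left.op (incl G' (op P.left) P.hom x) = E.presheaf.map k.left.op 0 :=
    (Sieve.overEquiv_symm_iff _ k).1 hk
  rw [map_zero] at hk'
  change sumMap G' k.left.op (incl G' (op P.left) P.hom x) = 0 at hk'
  replace hk' := (sumMap_of G' k.left.op P.hom x).symm.trans hk'
  have hz := DirectSum.of_injective _ (hk'.trans (map_zero _).symm)
  change G.val.presheaf.map k.op x = G.val.presheaf.map k.op 0
  rw [map_zero]
  have hk2 : k.op = (Over.homMk k.left : Over.mk (k.left ≫ P.hom) ⟶ Over.mk P.hom).op ≫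
      (Over.homMk (𝟙 _) (by simp) : Q ⟶ Over.mk (k.left ≫ P.hom)).op :=
    Quiver.Hom.unop_inj (Over.OverMorphism.ext (Category.id_comp _).symm)
  rw [hk2, Functor.map_comp]
  exact (congrArg (G.val.presheaf.map _) hz).trans (map_zero (G.val.presheaf.map _).hom)

open scoped Classical in
theorem faithful_ext : (ext O U).Faithful := by
  refine ⟨fun {G G'} a b hab => ?_⟩
  apply SheafOfModules.hom_ext
  apply PresheafOfModules.hom_ext
  intro P
  refine ModuleCat.hom_ext (LinearMap.ext fun x => ?_)
  rw [← sub_eq_zero]
  refine eq_zero_of_extP_unit O U P.unop _ ?_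
  let ι := fun H : SheafOfModules.{u} (O.over U) =>
    (PresheafOfModules.sheafificationAdjunction (𝟙 O.obj)).unit.app ((extP O U).obj ((SheafOfModules.forget (O.over U)).obj H))
  have hn : ∀ (c : G ⟶ G'), (ι G').app (op P.unop.left) (incl _ (op P.unop.left) P.unop.hom (c.val.app P x)) =
      ((SheafOfModules.forget O).map ((PresheafOfModules.sheafification.{u} (𝟙 O.obj)).map ((extP O U).map ((SheafOfModules.forget (O.over U)).map c)))).app (op P.unop.left)
        ((ι G).app (op P.unop.left) (incl _ (op P.unop.left) P.unop.hom x)) := fun c => by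
    have h1 := (PresheafOfModules.sheafificationAdjunction (𝟙 O.obj)).unit.naturality ((extP O U).map ((SheafOfModules.forget (O.over U)).map c))
    have h2 := congrArg (fun t => t.app (op P.unop.left) (incl ((SheafOfModules.forget (O.over U)).obj G) (op P.unop.left) P.unop.hom x)) h1
    refine Eq.trans ?_ h2
    exact congrArg ((ι G').app (op P.unop.left)) (DirectSum.lmap_lof (hcomp ((SheafOfModules.forget (O.over U)).map c) (op P.unop.left)) _ x).symm
  erw [map_sub, map_sub, sub_eq_zero]
  exact (hn a).trans ((congrArg (fun t => ((SheafOfModules.forget O).map t).app (op P.unop.left)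
    ((ι G).app (op P.unop.left) (incl _ (op P.unop.left) P.unop.hom x))) hab).trans (hn b).symm)

end GrothLib.RingExtZero
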